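import Cfsg.Agent.Lib.Forms.Count

/-!
# The coordinate forms of `Def_Classical` as quadratic forms

`qOddC`, `qMinusC` are the quadratic forms behind `quadFormOdd`, `quadFormMinus`; isometries with
the split models, orders of the isometry groups and numbers of zeros.
-/

set_option autoImplicit false

namespace Cfsg.Agent.Lib.OrthStd

open Module QuadraticMap Cfsg.Agent.Lib.Forms

variable {F : Type*} [Field F]

/-- The coordinate split for the odd form. -/
def oddSplit (m : ℕ) (F : Type*) [Field F] :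
    (Unit ⊕ (Fin m ⊕ Fin m) → F) ≃ₗ[F] (Fin m ⊕ Fin m → F) × F where
  toFun v := (fun j => v (Sum.inr j), v (Sum.inl ()))
  map_add' u v := rfl
  map_smul' c v := rfl
  invFun p := Sum.elim (fun _ => p.2) p.1
  left_inv v := by funext j; rcases j with ⟨⟩ | j <;> rfl
  right_inv p := rfl

/-- The coordinate split for the minus form. -/
def minusSplit (m : ℕ) (F : Type*) [Field F] :
    ((Fin m ⊕ Fin m) ⊕ Fin 2 → F) ≃ₗ[F] (Fin m ⊕ Fin m → F) × (Fin 2 → F) where
  toFun v := (fun j => v (Sum.inl j), fun j => v (Sum.inr j))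
  map_add' u v := rfl
  map_smul' c v := rfl
  invFun p := Sum.elim p.1 p.2
  left_inv v := by funext j; rcases j with j | j <;> rfl
  right_inv p := rfl

/-- `x₀² + Σ xᵢ yᵢ` as a quadratic form. -/
def qOddC (m : ℕ) (F : Type*) [Field F] : QuadraticForm F (Unit ⊕ (Fin m ⊕ Fin m) → F) :=
  ((qPlus (F := F) m).prod (qOne 1)).comp (oddSplit m F).toLinearMap

/-- `Σ xᵢ yᵢ + z₁² + a z₁ z₂ + b z₂²` as a quadratic form. -/
def qMinusC (m : ℕ) (a b : F) : QuadraticForm F ((Fin m ⊕ Fin m) ⊕ Fin 2 → F) :=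
  ((qPlus (F := F) m).prod (qBin a b)).comp (minusSplit m F).toLinearMap

theorem quadFormPlus_eq (m : ℕ) (v : Fin m ⊕ Fin m → F) :
    Cfsg.quadFormPlus m F v = qPlus m v := (qPlus_apply m v).symm

theorem quadFormOdd_eq (m : ℕ) (v : Unit ⊕ (Fin m ⊕ Fin m) → F) :
    Cfsg.quadFormOdd m F v = qOddC m F v := by
  simp [qOddC, oddSplit, qOne_apply, qPlus_apply, Cfsg.quadFormOdd]
  ring

theorem quadFormMinus_eq (m : ℕ) (a b : F) (v : (Fin m ⊕ Fin m) ⊕ Fin 2 → F) :
    Cfsg.quadFormMinus m F a b v = qMinusC m a b v := by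
  simp [qMinusC, minusSplit, qBin_apply, qPlus_apply, Cfsg.quadFormMinus]

/-- The split of the odd form. -/
def oddIso (m : ℕ) (F : Type*) [Field F] :
    (qOddC m F).IsometryEquiv ((qPlus (F := F) m).prod (qOne 1)) :=
  { oddSplit m F with map_app' := fun _ => rfl }

/-- The split of the minus form. -/
def minusIso (m : ℕ) (a b : F) :
    (qMinusC m a b).IsometryEquiv ((qPlus (F := F) m).prod (qBin a b)) :=
  { minusSplit m F with map_app' := fun _ => rfl }

variable [Fintype F] {q : ℕ}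

theorem card_isometry {ι : Type} [Fintype ι] [DecidableEq ι] {f : (ι → F) → F}
    {Q : QuadraticForm F (ι → F)} (hf : ∀ v, f v = Q v) :
    Nat.card (Cfsg.isometryGroup F f) = Nat.card (orth Q) :=
  Nat.card_congr (isoOrth Q hf).toEquiv

/-- A product identity for the orders. -/
theorem prod_even_powers (q k : ℕ) (hq : 1 ≤ q) :
    ∏ i ∈ Finset.range k, ((q ^ (i + 1) - 1) * (q ^ (i + 1) + 1)) =
      ∏ i ∈ Finset.range k, (q ^ (2 * (i + 1)) - 1) := by
  refine Finset.prod_congr rfl fun i _ => ?_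
  rw [mul_comm, ← Nat.sq_sub_sq, one_pow, ← pow_mul, mul_comm]

theorem card_orth_odd (hF : Fintype.card F = q) (hodd : Odd q) (m : ℕ) :
    Nat.card (Cfsg.isometryGroup F (Cfsg.quadFormOdd m F)) =
      2 * q ^ (m ^ 2) * ∏ i ∈ Finset.range m, (q ^ (2 * (i + 1)) - 1) := by
  have h2 : (2 : F) ≠ 0 := by
    intro h
    have := (Nat.odd_iff.mp hodd)
    have h2 := FiniteField.even_card_of_char_two (F := F)
      (CharP.ringChar_of_prime_eq_zero Nat.prime_two (by exact_mod_cast h))
    omega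
  have hq : 1 ≤ q := hF ▸ Fintype.card_pos
  rw [card_isometry (quadFormOdd_eq m), card_orth_congr ⟨oddIso m F⟩,
    card_orth_plus_prod (qOne_nondeg one_ne_zero h2)
      (fun x hx => by simpa [qOne_apply] using hx) m,
    card_orth_qOne one_ne_zero h2, Nat.card_eq_fintype_card, hF, Module.finrank_self,
    ← prod_even_powers q m hq, mul_assoc]
  congr 1
  rw [show m ^ 2 = ∑ i ∈ Finset.range m, (2 * i + 1) by
    induction m with
    | zero => simp
    | succ k ih => rw [Finset.sum_range_succ, ← ih]; ring,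
    ← Finset.prod_pow_eq_pow_sum, ← Finset.prod_mul_distrib]
  exact Finset.prod_congr rfl fun i _ => by ring

theorem card_orth_plus (hF : Fintype.card F = q) (m : ℕ) (hm : 1 ≤ m) :
    Nat.card (Cfsg.isometryGroup F (Cfsg.quadFormPlus m F)) =
      2 * q ^ (m * (m - 1)) * (q ^ m - 1) *
        ∏ i ∈ Finset.range (m - 1), (q ^ (2 * (i + 1)) - 1) := by
  have hq : 1 ≤ q := hF ▸ Fintype.card_pos
  obtain ⟨k, rfl⟩ : ∃ k, m = k + 1 := ⟨m - 1, by omega⟩
  let e : (qPlus (F := F) (k + 1)).IsometryEquiv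
      ((qPlus (F := F) (k + 1)).prod (0 : QuadraticForm F (Fin 0 → F))) :=
    { toFun := fun v => (v, 0)
      map_add' := fun u v => by simp
      map_smul' := fun c v => by simp
      invFun := fun p => p.1
      left_inv := fun v => rfl
      right_inv := fun p => Prod.ext rfl (Subsingleton.elim _ _)
      map_app' := fun v => by simp }
  rw [card_isometry (quadFormPlus_eq (k + 1)), card_orth_congr ⟨e⟩,
    card_orth_plus_prod (fun x _ => Subsingleton.elim x 0) (fun x _ => Subsingleton.elim x 0),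
    card_orth_subsingleton, Nat.card_eq_fintype_card, hF, Module.finrank_fin_fun, one_mul,
    Nat.add_sub_cancel, ← prod_even_powers q k hq]
  simp only [add_zero]
  rw [Finset.prod_mul_distrib, Finset.prod_mul_distrib, Finset.prod_mul_distrib,
    Finset.prod_pow_eq_pow_sum]
  rw [show (∑ i ∈ Finset.range (k + 1), 2 * i) = (k + 1) * k by
    rw [← Finset.mul_sum, mul_comm, Finset.sum_range_id_mul_two]; simp]
  rw [Finset.prod_range_succ (fun i => q ^ (i + 1) - 1), Finset.prod_range_succ' (fun i => q ^ i + 1)]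
  simp only [pow_zero]
  ring

theorem card_orth_minus (hF : Fintype.card F = q) (m : ℕ) (hm : 1 ≤ m) {a b : F}
    (hab : ∀ z₁ z₂ : F, z₁ ^ 2 + a * z₁ * z₂ + b * z₂ ^ 2 = 0 → z₁ = 0 ∧ z₂ = 0) :
    Nat.card (Cfsg.isometryGroup F (Cfsg.quadFormMinus (m - 1) F a b)) =
      2 * q ^ (m * (m - 1)) * (q ^ m + 1) *
        ∏ i ∈ Finset.range (m - 1), (q ^ (2 * (i + 1)) - 1) := by
  have hq : 1 ≤ q := hF ▸ Fintype.card_pos
  obtain ⟨k, rfl⟩ : ∃ k, m = k + 1 := ⟨m - 1, by omega⟩
  rw [Nat.add_sub_cancel, card_isometry (quadFormMinus_eq k a b),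
    card_orth_congr ⟨minusIso k a b⟩,
    card_orth_plus_prod (qBin_nondeg hab) (qBin_anisotropic hab) k,
    card_orth_qBin hab, Nat.card_eq_fintype_card, hF, Module.finrank_fin_fun,
    ← prod_even_powers q k hq]
  rw [Finset.prod_mul_distrib, Finset.prod_mul_distrib, Finset.prod_mul_distrib,
    Finset.prod_pow_eq_pow_sum]
  rw [show (∑ i ∈ Finset.range k, (2 * i + 2)) = (k + 1) * k by
    clear hm
    induction k with
    | zero => simp
    | succ j ih => rw [Finset.sum_range_succ, ih]; ring]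
  have h : (q + 1) * ∏ i ∈ Finset.range k, (q ^ (i + 2) + 1) =
      (∏ i ∈ Finset.range k, (q ^ (i + 1) + 1)) * (q ^ (k + 1) + 1) := by
    rw [← Finset.prod_range_succ (fun i => q ^ (i + 1) + 1),
      Finset.prod_range_succ' (fun i => q ^ (i + 1) + 1), zero_add, pow_one, mul_comm]
  calc _ = 2 * q ^ ((k + 1) * k) * (∏ i ∈ Finset.range k, (q ^ (i + 1) - 1)) *
        ((q + 1) * ∏ i ∈ Finset.range k, (q ^ (i + 2) + 1)) := by ring
    _ = _ := by rw [h]; ring

theorem card_zeros_plus (hF : Fintype.card F = q) (m : ℕ) (hm : 1 ≤ m) :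
    Nat.card {v : Fin m ⊕ Fin m → F // Cfsg.quadFormPlus m F v = 0} =
      q ^ (2 * m - 1) + q ^ m - q ^ (m - 1) := by
  let e : (qPlus (F := F) m).IsometryEquiv
      ((qPlus (F := F) m).prod (0 : QuadraticForm F (Fin 0 → F))) :=
    { toFun := fun v => (v, 0)
      map_add' := fun u v => by simp
      map_smul' := fun c v => by simp
      invFun := fun p => p.1
      left_inv := fun v => rfl
      right_inv := fun p => Prod.ext rfl (Subsingleton.elim _ _)
      map_app' := fun v => by simp }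
  simp only [quadFormPlus_eq]
  rw [card_level_congr ⟨e⟩]
  change levelCard _ (0 : F) = _
  rw [levelCard_plus_prod, levelCard_zero_anisotropic (fun x _ => Subsingleton.elim x 0),
    Nat.card_eq_fintype_card, hF, Module.finrank_fin_fun, mul_one, add_zero]
  obtain ⟨k, rfl⟩ : ∃ k, m = k + 1 := ⟨m - 1, by omega⟩
  rw [show 2 * (k + 1) - 1 = (k + 1) + k by omega, Nat.add_sub_cancel, pow_add q (k + 1) k,
    Nat.sub_mul, one_mul]
  have hq : 1 ≤ q := hF ▸ Fintype.card_pos
  have h1 : q ^ k ≤ q ^ (k + 1) * q ^ k :=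
    Nat.le_mul_of_pos_left _ (Nat.pow_pos (by omega))
  omega

theorem card_zeros_minus (hF : Fintype.card F = q) (m : ℕ) (hm : 1 ≤ m) {a b : F}
    (hab : ∀ z₁ z₂ : F, z₁ ^ 2 + a * z₁ * z₂ + b * z₂ ^ 2 = 0 → z₁ = 0 ∧ z₂ = 0) :
    Nat.card {v : (Fin (m - 1) ⊕ Fin (m - 1)) ⊕ Fin 2 → F //
        Cfsg.quadFormMinus (m - 1) F a b v = 0} =
      q ^ (2 * m - 1) + q ^ (m - 1) - q ^ m := by
  obtain ⟨k, rfl⟩ : ∃ k, m = k + 1 := ⟨m - 1, by omega⟩
  show Nat.card {v : (Fin k ⊕ Fin k) ⊕ Fin 2 → F // Cfsg.quadFormMinus k F a b v = 0} =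
      q ^ (2 * (k + 1) - 1) + q ^ k - q ^ (k + 1)
  simp only [quadFormMinus_eq]
  rw [card_level_congr ⟨minusIso k a b⟩]
  change levelCard _ (0 : F) = _
  rw [levelCard_plus_prod, levelCard_zero_anisotropic (qBin_anisotropic hab),
    Nat.card_eq_fintype_card, hF, Module.finrank_fin_fun, mul_one]
  have hq : 1 ≤ q := hF ▸ Fintype.card_pos
  rw [show 2 * (k + 1) - 1 = k + (k + 1) by omega, show k + 2 - 1 = k + 1 by omega,
    pow_add q k (k + 1), Nat.sub_mul, one_mul]
  have h1 : q ^ (k + 1) ≤ q ^ k * q ^ (k + 1) :=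
    Nat.le_mul_of_pos_left _ (Nat.pow_pos (by omega))
  omega

theorem card_zeros_odd (hF : Fintype.card F = q) (m : ℕ) :
    Nat.card {v : Unit ⊕ (Fin m ⊕ Fin m) → F // Cfsg.quadFormOdd m F v = 0} = q ^ (2 * m) := by
  simp only [quadFormOdd_eq]
  rw [card_level_congr ⟨oddIso m F⟩]
  change levelCard _ (0 : F) = _
  rw [levelCard_plus_prod,
    levelCard_zero_anisotropic (fun x hx => by simpa [qOne_apply] using hx),
    Nat.card_eq_fintype_card, hF, Module.finrank_self, mul_one, Nat.add_sub_cancel, two_mul,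
    pow_add, Nat.sub_mul, one_mul]
  have hq : 1 ≤ q := hF ▸ Fintype.card_pos
  have h1 : q ^ m ≤ q ^ m * q ^ m := Nat.le_mul_of_pos_left _ (Nat.pow_pos (by omega))
  omega

end Cfsg.Agent.Lib.OrthStd
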